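import Groth.Prelude.Def_Found
import Groth.Agent.S4562
import Mathlib.RingTheory.NoetherNormalization
import Mathlib.Algebra.MvPolynomial.Expand
import Mathlib.FieldTheory.PurelyInseparable.Basic
import Mathlib.RingTheory.Polynomial.UniqueFactorization
import Mathlib.RingTheory.Polynomial.RationalRoot

/-!
# Finitely generated algebras over a field are Nagata

The integral closure of a polynomial ring over a field in a finite purely inseparable extension of its
fraction field is finite, because it embeds in a polynomial ring over a finite extension of the base in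
`q`-th roots of the variables. Noether normalization gives the general case.
-/

namespace Groth.Agent.NagataLib

universe u

set_option linter.style.haveILetI false

open MvPolynomial

/-- The substitution `x ↦ x ^ q` into a polynomial ring over a larger field. -/
noncomputable def rootHom (k k' : Type u) [Field k] [Field k'] [Algebra k k'] (σ : Type u) (q : ℕ) :
    MvPolynomial σ k →+* MvPolynomial σ k' :=
  (MvPolynomial.map (algebraMap k k')).comp (expand q).toRingHom

theorem rootHom_injective (k k' : Type u) [Field k] [Field k'] [Algebra k k'] (σ : Type u) {q : ℕ} (hq : 0 < q) :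
    Function.Injective (rootHom k k' σ q) :=
  (MvPolynomial.map_injective _ (algebraMap k k').injective).comp (expand_injective hq)

theorem rootHom_finite (k k' : Type u) [Field k] [Field k'] [Algebra k k'] [Module.Finite k k'] (σ : Type u)
    [Finite σ] {q : ℕ} (hq : 0 < q) : (rootHom k k' σ q).Finite := by
  have hk : (rootHom k k' σ q).comp C = (C : k' →+* MvPolynomial σ k').comp (algebraMap k k') := by
    refine RingHom.ext fun a => ?_
    show MvPolynomial.map (algebraMap k k') (expand q (C a)) = _
    rw [expand_C, map_C]
    rfl
  letI := (rootHom k k' σ q).toAlgebra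
  haveI : IsScalarTower k (MvPolynomial σ k) (MvPolynomial σ k') :=
    IsScalarTower.of_algebraMap_eq fun a => (RingHom.congr_fun hk a).symm
  haveI : Algebra.FiniteType k (MvPolynomial σ k') := Algebra.FiniteType.trans (S := k') inferInstance inferInstance
  haveI : Algebra.FiniteType (MvPolynomial σ k) (MvPolynomial σ k') :=
    Algebra.FiniteType.of_restrictScalars_finiteType k _ _
  haveI : Algebra.IsIntegral (MvPolynomial σ k) (MvPolynomial σ k') := ⟨fun f => by
    induction f using MvPolynomial.induction_on with
    | C a =>
      exact ((Algebra.IsIntegral.isIntegral (R := k) a).map (IsScalarTower.toAlgHom k k' (MvPolynomial σ k'))).tower_top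
    | add f g hf hg => exact hf.add hg
    | mul_X f i hf =>
      refine hf.mul (IsIntegral.of_pow hq ?_)
      rw [show (X i : MvPolynomial σ k') ^ q = algebraMap (MvPolynomial σ k) (MvPolynomial σ k') (X i) by
        show _ = MvPolynomial.map (algebraMap k k') (expand q (X i))
        rw [expand_X, map_pow, map_X]]
      exact isIntegral_algebraMap⟩
  exact Algebra.IsIntegral.finite

set_option synthInstance.maxHeartbeats 100000 in
set_option maxHeartbeats 1000000 in
/-- The integral closure of a polynomial ring in a finite purely inseparable extension is finite. -/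
theorem finite_integralClosure_purelyInseparable (k : Type u) [Field k] (σ : Type u) [Finite σ]
    (K K' : Type u) [Field K] [Field K'] [Algebra (MvPolynomial σ k) K] [IsFractionRing (MvPolynomial σ k) K]
    [Algebra K K'] [Algebra (MvPolynomial σ k) K'] [IsScalarTower (MvPolynomial σ k) K K']
    [FiniteDimensional K K'] [IsPurelyInseparable K K'] :
    Module.Finite (MvPolynomial σ k) (integralClosure (MvPolynomial σ k) K') := by
  classical
  obtain ⟨p, hp⟩ := ExpChar.exists k
  haveI : ExpChar (MvPolynomial σ k) p := expChar_of_injective_ringHom (C_injective σ k) p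
  haveI : ExpChar K p := expChar_of_injective_ringHom (IsFractionRing.injective (MvPolynomial σ k) K) p
  haveI : ExpChar K' p := expChar_of_injective_ringHom (algebraMap K K').injective p
  obtain ⟨s, hs⟩ := IntermediateField.fg_top K K'
  choose e he using fun y : s => IsPurelyInseparable.pow_mem K p (y : K')
  let N := Finset.univ.sup e
  have hmem : ∀ y : s, ∃ a b : MvPolynomial σ k, b ≠ 0 ∧
      (y : K') ^ p ^ N = algebraMap K K' (algebraMap _ K a / algebraMap _ K b) := by
    intro y
    obtain ⟨c, hc⟩ := he y
    have hle : e y ≤ N := Finset.le_sup (Finset.mem_univ y)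
    obtain ⟨a, b, hb, hab⟩ := IsFractionRing.div_surjective (A := MvPolynomial σ k) (c ^ p ^ (N - e y))
    refine ⟨a, b, nonZeroDivisors.ne_zero hb, ?_⟩
    rw [hab, map_pow, hc, ← pow_mul, ← pow_add, Nat.add_sub_cancel' hle]
  choose num den hden hy using hmem
  -- the finitely many coefficients
  let Ω₀ := AlgebraicClosure k
  let S : Finset k := Finset.univ.biUnion fun y : s => (num y).coeffs ∪ (den y).coeffs
  have hq : 0 < p ^ N := pow_pos (expChar_pos k p) N
  choose root hroot using fun a : k => IsAlgClosed.exists_pow_nat_eq (algebraMap k Ω₀ a) hq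
  let k' : IntermediateField k Ω₀ := IntermediateField.adjoin k ↑(S.image root)
  haveI : FiniteDimensional k k' := IntermediateField.finiteDimensional_adjoin
    fun x _ => Algebra.IsIntegral.isIntegral x
  let P := MvPolynomial σ k
  let P' := MvPolynomial σ k'
  let φ := rootHom k k' σ (p ^ N)
  have hφ : Function.Injective φ := rootHom_injective k k' σ hq
  letI : Algebra P P' := φ.toAlgebra
  haveI : Module.Finite P P' := rootHom_finite k k' σ hq
  haveI : ExpChar k' p := expChar_of_injective_ringHom (algebraMap k k').injective p
  haveI : ExpChar P' p := expChar_of_injective_ringHom (C_injective σ k') p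
  have hrootmem : ∀ f : P, (∀ c ∈ f.coeffs, c ∈ S) → ∃ f' : P', f' ^ p ^ N = φ f := by
    intro f hf
    refine ⟨∑ d ∈ f.support.attach, monomial d.1
      (⟨root (coeff d.1 f), IntermediateField.subset_adjoin k _ (Finset.mem_coe.2
        (Finset.mem_image_of_mem _ (hf _ (coeff_mem_coeffs d.1 (mem_support_iff.1 d.2)))))⟩ : k'), ?_⟩
    rw [sum_pow_char_pow]
    conv_rhs => rw [f.as_sum, ← Finset.sum_attach, map_sum]
    refine Finset.sum_congr rfl fun d _ => ?_
    show _ = MvPolynomial.map (algebraMap k k') (expand (p ^ N) (monomial d.1 (coeff d.1 f)))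
    rw [expand_monomial, map_monomial, monomial_pow]
    exact congrArg _ (Subtype.ext (hroot _))
  let M := FractionRing P'
  let Ω := AlgebraicClosure M
  let toM : K →+* M := IsFractionRing.lift (A := P) (g := (algebraMap P' M).comp φ)
    ((IsFractionRing.injective P' M).comp hφ)
  letI : Algebra K Ω := ((algebraMap M Ω).comp toM).toAlgebra
  haveI : ExpChar Ω p := expChar_of_injective_ringHom (algebraMap K Ω).injective p
  haveI : Algebra.IsAlgebraic K K' := Algebra.IsAlgebraic.of_finite K K'
  let ι : K' →ₐ[K] Ω := IsAlgClosed.lift
  have htoM : ∀ a : P, toM (algebraMap P K a) = algebraMap P' M (φ a) := fun a =>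
    IsFractionRing.lift_algebraMap _ a
  have hgen : ∀ y : s, ι (y : K') ∈ (algebraMap M Ω).fieldRange := by
    intro y
    have hS : ∀ f ∈ ({num y, den y} : Set P), ∀ c ∈ f.coeffs, c ∈ S := by
      rintro f (rfl | rfl) c hc
      · exact Finset.mem_biUnion.2 ⟨y, Finset.mem_univ _, Finset.mem_union_left _ hc⟩
      · exact Finset.mem_biUnion.2 ⟨y, Finset.mem_univ _, Finset.mem_union_right _ hc⟩
    obtain ⟨a', ha'⟩ := hrootmem (num y) (hS _ (Or.inl rfl))
    obtain ⟨b', hb'⟩ := hrootmem (den y) (hS _ (Or.inr rfl))
    refine ⟨algebraMap P' M a' / algebraMap P' M b', iterateFrobenius_inj Ω p N ?_⟩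
    rw [iterateFrobenius_def, iterateFrobenius_def, ← map_pow, ← map_pow, hy, ι.commutes, div_pow, ← map_pow,
      ← map_pow, ha', hb', ← htoM, ← htoM, ← map_div₀]
    rfl
  have hrange : ∀ z : K', ι z ∈ (algebraMap M Ω).fieldRange := by
    let F : IntermediateField K K' :=
      { toSubalgebra :=
          { toSubsemiring := (algebraMap M Ω).fieldRange.toSubring.toSubsemiring.comap ι.toRingHom
            algebraMap_mem' := fun c => ⟨toM c, (ι.commutes c).symm⟩ }
        inv_mem' := fun z hz => show ι z⁻¹ ∈ (algebraMap M Ω).fieldRange by
          rw [map_inv₀]; exact inv_mem hz }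
    intro z
    have : (⊤ : IntermediateField K K') ≤ F := hs ▸ IntermediateField.adjoin_le_iff.2 fun w hw => hgen ⟨w, hw⟩
    exact this IntermediateField.mem_top
  choose emb hemb using hrange
  have hinj : Function.Injective (algebraMap M Ω) := (algebraMap M Ω).injective
  let j : K' →ₐ[P] M :=
    { toFun := emb
      map_one' := hinj (by rw [hemb, map_one, map_one])
      map_mul' := fun a b => hinj (by rw [map_mul (algebraMap M Ω), hemb, hemb, hemb, map_mul])
      map_zero' := hinj (by rw [hemb, map_zero, map_zero])
      map_add' := fun a b => hinj (by rw [RingHom.map_add, hemb, hemb, hemb]; exact map_add ι a b)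
      commutes' := fun a => hinj (by
        rw [hemb, IsScalarTower.algebraMap_apply P K K', ι.commutes]
        exact congrArg (algebraMap M Ω) ((htoM a).trans (IsScalarTower.algebraMap_apply P P' M a).symm)) }
  -- the integral closure lands in `P'`
  haveI : IsIntegrallyClosed P' := inferInstance
  have hland : ∀ z : integralClosure P K', ∃ w : P', algebraMap P' M w = j z := fun z =>
    IsIntegrallyClosed.isIntegral_iff.1 ((z.2.map j).tower_top (A := P'))
  choose w hw using hland
  let f : integralClosure P K' →ₗ[P] P' :=
    { toFun := w
      map_add' := fun a b => IsFractionRing.injective P' M (by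
        rw [RingHom.map_add, hw, hw, hw]; exact map_add j (a : K') b)
      map_smul' := fun r a => IsFractionRing.injective P' M (by
        rw [RingHom.id_apply, hw, Algebra.smul_def r (w a), RingHom.map_mul, hw, ← IsScalarTower.algebraMap_apply P P' M]
        exact (map_smul j r (a : K')).trans (Algebra.smul_def r (j (a : K')))) }
  exact Module.Finite.of_injective f fun a b h => Subtype.ext (j.toRingHom.injective (by
    show j a = j b
    rw [← hw, ← hw]; exact congrArg _ h))

/-- Polynomial rings over fields are N-2. -/
theorem isN2_mvPolynomial (k : Type u) [Field k] (σ : Type u) [Finite σ] : CAlg.IsN2 (MvPolynomial σ k) :=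
  S4562.result _ fun K' _ _ _ _ hfin hpi =>
    finite_integralClosure_purelyInseparable k σ (FractionRing (MvPolynomial σ k)) K'

/-- The normalization of a finitely generated domain over a field in a finite extension is finite. -/
theorem isN2_of_finiteType (k : Type u) [Field k] (A : Type u) [CommRing A] [IsDomain A] [Algebra k A]
    [Algebra.FiniteType k A] : CAlg.IsN2 A := by
  intro L _ _ _ _ hfin
  obtain ⟨n, g, hg, hgf⟩ := exists_finite_inj_algHom_of_fg k A
  let e : MvPolynomial (ULift.{u} (Fin n)) k ≃ₐ[k] MvPolynomial (Fin n) k := renameEquiv k Equiv.ulift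
  let P := MvPolynomial (ULift.{u} (Fin n)) k
  let g' : P →+* A := g.toRingHom.comp e.toRingEquiv.toRingHom
  have hg' : Function.Injective g' := hg.comp e.injective
  letI : Algebra P A := g'.toAlgebra
  haveI : Module.Finite P A :=
    RingHom.Finite.comp hgf (RingHom.Finite.of_surjective e.toRingEquiv.toRingHom e.surjective)
  haveI : FaithfulSMul P A := (faithfulSMul_iff_algebraMap_injective P A).2 hg'
  let K := FractionRing P
  let KA := FractionRing A
  letI : Algebra K KA := FractionRing.liftAlgebra P KA
  haveI : IsScalarTower P K KA := FractionRing.isScalarTower_liftAlgebra P KA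
  haveI : FiniteDimensional K KA := Module.Finite.of_isLocalization P A (nonZeroDivisors P)
  letI : Algebra P L := ((algebraMap A L).comp g').toAlgebra
  haveI : IsScalarTower P A L := IsScalarTower.of_algebraMap_eq fun _ => rfl
  letI : Algebra K L := ((algebraMap KA L).comp (algebraMap K KA)).toAlgebra
  haveI : IsScalarTower K KA L := IsScalarTower.of_algebraMap_eq fun _ => rfl
  haveI : IsScalarTower P K L := IsScalarTower.of_algebraMap_eq fun a => by
    show algebraMap A L (g' a) = algebraMap KA L (algebraMap K KA (algebraMap P K a))
    rw [← IsScalarTower.algebraMap_apply P K KA, IsScalarTower.algebraMap_apply P A KA,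
      ← IsScalarTower.algebraMap_apply A KA L]
    rfl
  haveI : FiniteDimensional K L := Module.Finite.trans KA L
  haveI : Module.Finite P (integralClosure P L) := isN2_mvPolynomial k (ULift.{u} (Fin n)) L ‹_›
  haveI : Algebra.IsIntegral P A := inferInstance
  let i : integralClosure A L →ₗ[P] integralClosure P L :=
    { toFun := fun z => ⟨z.1, isIntegral_trans z.1 z.2⟩
      map_add' := fun _ _ => rfl
      map_smul' := fun _ _ => rfl }
  haveI : Module.Finite P (integralClosure A L) :=
    Module.Finite.of_injective i fun a b h => Subtype.ext (congrArg (fun z : integralClosure P L => (z : L)) h)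
  exact Module.Finite.of_restrictScalars_finite P A _

/-- Algebras of finite type over a field are Nagata. -/
theorem isNagata_of_finiteType (k : Type u) [Field k] (A : Type u) [CommRing A] [Algebra k A]
    [Algebra.FiniteType k A] : CAlg.IsNagata A :=
  ⟨Algebra.FiniteType.isNoetherianRing k A, fun p hp => isN2_of_finiteType k (A ⧸ p)⟩

end Groth.Agent.NagataLib
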