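import Groth.Prelude.Def_Found
import Mathlib

/-!
# Finiteness of relative integral closures over Nagata rings
-/

set_option autoImplicit false
set_option linter.style.haveILetI false

universe u

namespace Groth.Agent.NagataLib

theorem finiteDimensional_of_isAlgebraic {K F : Type u} [Field K] [Field F] [Algebra K F]
    [Algebra.EssFiniteType K F] (E : IntermediateField K F) [Algebra.IsAlgebraic K E] :
    FiniteDimensional K E := by
  classical
  obtain ⟨ι, x, hx⟩ := exists_isTranscendenceBasis' K F
  let L₀ := IntermediateField.adjoin K (Set.range x)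
  haveI : Algebra.IsAlgebraic L₀ F := hx.isAlgebraic_field
  haveI : Algebra.EssFiniteType L₀ F := Algebra.EssFiniteType.of_comp K L₀ F
  haveI : FiniteDimensional L₀ F := by
    obtain ⟨s, hs⟩ := IntermediateField.fg_top L₀ F
    haveI : FiniteDimensional L₀ (IntermediateField.adjoin L₀ (s : Set F)) :=
      IntermediateField.finiteDimensional_adjoin fun y _ => (Algebra.IsAlgebraic.isAlgebraic y).isIntegral
    rw [hs] at this
    exact IntermediateField.topEquiv.toLinearEquiv.finiteDimensional
  let b := Module.Free.chooseBasis K E
  have hind : AlgebraicIndependent E x := hx.1.extendScalars E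
  have hli : LinearIndependent L₀ (fun i => ((b i : E) : F)) := by
    rw [linearIndependent_iff']
    intro s c hsum i hi
    choose r q hrq using fun j => (IntermediateField.mem_adjoin_range_iff (F := K) x (c j : F)).mp (c j).2
    let D : MvPolynomial ι K := ∏ j ∈ s.filter (fun j => c j ≠ 0), q j
    have hq0 : ∀ j, c j ≠ 0 → MvPolynomial.aeval x (q j) ≠ 0 := fun j hj h0 => hj <| by
      apply Subtype.ext
      rw [hrq j, h0, div_zero]
      rfl
    let p : _ → MvPolynomial ι K := fun j =>
      if c j ≠ 0 then r j * ∏ l ∈ (s.filter (fun j => c j ≠ 0)).erase j, q l else 0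
    have hp : ∀ j ∈ s, MvPolynomial.aeval x (p j) = (c j : F) * MvPolynomial.aeval x D := fun j hj => by
      simp only [p]
      split_ifs with h
      · have hmem : j ∈ s.filter (fun j => c j ≠ 0) := Finset.mem_filter.mpr ⟨hj, h⟩
        have hD : D = q j * ∏ l ∈ (s.filter (fun j => c j ≠ 0)).erase j, q l :=
          (Finset.mul_prod_erase _ _ hmem).symm
        rw [hD, map_mul, map_mul, hrq j, ← mul_assoc, div_mul_cancel₀ _ (hq0 j h)]
      · push Not at h
        simp [h]
    let P : MvPolynomial ι E := ∑ j ∈ s, MvPolynomial.C (b j) * MvPolynomial.map (algebraMap K E) (p j)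
    have hP : MvPolynomial.aeval x P = (0 : F) := by
      have h1 : ∀ j ∈ s, MvPolynomial.aeval x
          (MvPolynomial.C (b j) * MvPolynomial.map (algebraMap K E) (p j)) =
            MvPolynomial.aeval x D * ((c j : F) * (b j : F)) := fun j hj => by
        rw [map_mul, MvPolynomial.aeval_C, MvPolynomial.aeval_map_algebraMap, hp j hj]
        show (b j : F) * _ = _
        ring
      simp only [P, map_sum]
      rw [Finset.sum_congr rfl h1, ← Finset.mul_sum]
      have h2 : ∑ j ∈ s, (c j : F) * (b j : F) = 0 := hsum
      rw [h2, mul_zero]
    have hP0 : P = 0 := hind.eq_zero_of_aeval_eq_zero P hP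
    have hpi : p i = 0 := by
      ext m
      have h := congrArg (MvPolynomial.coeff m) hP0
      simp only [P, MvPolynomial.coeff_sum, MvPolynomial.coeff_C_mul, MvPolynomial.coeff_map,
        MvPolynomial.coeff_zero] at h
      have h' : ∑ j ∈ s, (p j).coeff m • b j = 0 := by
        rw [← h]
        refine Finset.sum_congr rfl fun j _ => ?_
        rw [Algebra.smul_def, mul_comm]
      simpa using linearIndependent_iff'.mp b.linearIndependent s _ h' i hi
    by_contra hci
    have h3 := hp i hi
    rw [hpi, map_zero, eq_comm, mul_eq_zero] at h3
    rcases h3 with h3 | h3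
    · exact hci (Subtype.ext h3)
    · simp only [D, map_prod, Finset.prod_eq_zero_iff, Finset.mem_filter] at h3
      obtain ⟨j, ⟨-, hj⟩, hj0⟩ := h3
      exact hq0 j hj hj0
  haveI := hli.finite
  exact Module.Finite.of_basis b


/-- The relative algebraic closure of the base in a finitely generated domain. -/
theorem finite_integralClosure_domain {A : Type u} [CommRing A] (hA : CAlg.IsNagata A) (C : Type u)
    [CommRing C] [IsDomain C] [Algebra A C] [Algebra.FiniteType A C] :
    Module.Finite A (integralClosure A C) := by
  haveI := hA.1
  let p := RingHom.ker (algebraMap A C)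
  haveI : p.IsPrime := RingHom.ker_isPrime _
  let A' := A ⧸ p
  letI : Algebra A' C := (Ideal.Quotient.lift p (algebraMap A C) fun a ha => ha).toAlgebra
  haveI : IsScalarTower A A' C := IsScalarTower.of_algebraMap_eq fun _ => rfl
  haveI : FaithfulSMul A' C :=
    (faithfulSMul_iff_algebraMap_injective A' C).mpr (RingHom.kerLift_injective (algebraMap A C))
  haveI : Algebra.FiniteType A' C := Algebra.FiniteType.of_restrictScalars_finiteType A A' C
  let L := FractionRing C
  haveI : IsScalarTower A' C L := inferInstance
  haveI : FaithfulSMul A' L := (faithfulSMul_iff_algebraMap_injective A' L).mpr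
    (fun a b h => FaithfulSMul.algebraMap_injective A' C (IsFractionRing.injective C L (by
      rwa [IsScalarTower.algebraMap_apply A' C L, IsScalarTower.algebraMap_apply A' C L] at h)))
  letI : Algebra (FractionRing A') L := FractionRing.liftAlgebra A' L
  haveI : IsScalarTower A' (FractionRing A') L := FractionRing.isScalarTower_liftAlgebra A' L
  haveI : Algebra.EssFiniteType A' L :=
    haveI := Algebra.EssFiniteType.of_isLocalization (R := C) L (nonZeroDivisors C)
    Algebra.EssFiniteType.comp A' C L
  haveI : Algebra.EssFiniteType (FractionRing A') L := Algebra.EssFiniteType.of_comp A' _ L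
  let E := algebraicClosure (FractionRing A') L
  haveI : Algebra.IsAlgebraic (FractionRing A') E := algebraicClosure.isAlgebraic _ _
  haveI : FiniteDimensional (FractionRing A') E := finiteDimensional_of_isAlgebraic E
  letI : Algebra A' E := ((algebraMap (FractionRing A') E).comp (algebraMap A' _)).toAlgebra
  haveI : IsScalarTower A' (FractionRing A') E := IsScalarTower.of_algebraMap_eq fun _ => rfl
  haveI hE : Module.Finite A' (integralClosure A' E) := hA.2 p E ‹_›
  haveI : Module.Finite A A' :=
    Module.Finite.of_surjective (Algebra.linearMap A A') Ideal.Quotient.mk_surjective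
  letI : Algebra A E := ((algebraMap A' E).comp (algebraMap A A')).toAlgebra
  haveI : IsScalarTower A A' E := IsScalarTower.of_algebraMap_eq fun _ => rfl
  haveI : Module.Finite A (integralClosure A' E) := Module.Finite.trans A' _
  have hmem : ∀ z : integralClosure A C, IsIntegral A' (algebraMap C L z.1) := fun z =>
    (z.2.tower_top (A := A')).map (IsScalarTower.toAlgHom A' C L)
  let z' : integralClosure A C → integralClosure A' E := fun z =>
    ⟨⟨algebraMap C L z.1, mem_algebraicClosure_iff.mpr ((hmem z).tower_top (A := FractionRing A')).isAlgebraic⟩,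
      (isIntegral_algHom_iff (E.val.restrictScalars A') Subtype.val_injective).mp (hmem z)⟩
  let i : integralClosure A C →ₗ[A] integralClosure A' E :=
    { toFun := z'
      map_add' := fun a b => Subtype.ext (Subtype.ext (map_add (algebraMap C L) _ _))
      map_smul' := fun c a => Subtype.ext (Subtype.ext (by
        show algebraMap C L (c • a.1) = _
        rw [Algebra.smul_def, map_mul]
        show _ = ((c • (z' a).1 : E) : L)
        rw [Algebra.smul_def]
        show _ = ((algebraMap A E c : E) : L) * _
        congr 1
        show _ = algebraMap (FractionRing A') L (algebraMap A' _ (algebraMap A A' c))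
        rw [← IsScalarTower.algebraMap_apply A' (FractionRing A') L]
        rfl)) }
  exact Module.Finite.of_injective i fun a b h =>
    Subtype.ext (IsFractionRing.injective C L (congrArg (fun w : integralClosure A' E => (w.1 : L)) h))

/-- The integral closure of a Nagata ring in a reduced algebra of finite type is finite. -/
theorem finite_integralClosure_of_reduced {A : Type u} [CommRing A] (hA : CAlg.IsNagata A) (B : Type u)
    [CommRing B] [IsReduced B] [Algebra A B] [Algebra.FiniteType A B] :
    Module.Finite A (integralClosure A B) := by
  haveI := hA.1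
  haveI : IsNoetherianRing B := Algebra.FiniteType.isNoetherianRing A B
  haveI : Finite (minimalPrimes B) := (minimalPrimes.finite_of_isNoetherianRing B).to_subtype
  haveI : ∀ P : minimalPrimes B, (P.1).IsPrime := fun P => P.2.1.1
  haveI : ∀ P : minimalPrimes B, Module.Finite A (integralClosure A (B ⧸ P.1)) := fun P =>
    haveI : Algebra.FiniteType A (B ⧸ P.1) :=
      Algebra.FiniteType.of_surjective (Ideal.Quotient.mkₐ A P.1) Ideal.Quotient.mk_surjective
    finite_integralClosure_domain hA (B ⧸ P.1)
  let i : integralClosure A B →ₗ[A] ((P : minimalPrimes B) → integralClosure A (B ⧸ P.1)) :=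
    LinearMap.pi fun P => ((Ideal.Quotient.mkₐ A P.1).comp (integralClosure A B).val).toLinearMap.codRestrict
      (integralClosure A (B ⧸ P.1)).toSubmodule fun z => z.2.map (Ideal.Quotient.mkₐ A P.1)
  haveI : IsNoetherian A ((P : minimalPrimes B) → integralClosure A (B ⧸ P.1)) :=
    isNoetherian_of_isNoetherianRing_of_finite A _
  exact Module.Finite.of_injective i fun a b h => Subtype.ext <| sub_eq_zero.mp <| by
    have h0 : a.1 - b.1 ∈ sInf (minimalPrimes B) := Submodule.mem_sInf.mpr fun P hP => by
      have := congrArg Subtype.val (congrFun h ⟨P, hP⟩)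
      exact (Ideal.Quotient.mk_eq_mk_iff_sub_mem _ _).mp this
    have h1 : a.1 - b.1 ∈ (⊥ : Ideal B).radical := by
      rwa [← Ideal.sInf_minimalPrimes]
    exact IsReduced.eq_zero _ h1

end Groth.Agent.NagataLib
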