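import Groth.Prelude.Def_Found
import Mathlib.RingTheory.Localization.Integral
import Mathlib.RingTheory.Localization.LocalizationLocalization
import Mathlib.RingTheory.Localization.Submodule
import Mathlib.RingTheory.Finiteness.Basic

/-!
# Localizations of Nagata rings are Nagata
-/

namespace Groth.Agent.NagataLib

universe u

set_option linter.style.haveILetI false

theorem isN2_of_isLocalization {R : Type u} [CommRing R] [IsDomain R] (h : CAlg.IsN2 R) (M : Submonoid R)
    (hM : M ≤ nonZeroDivisors R) (S : Type u) [CommRing S] [IsDomain S] [Algebra R S] [IsLocalization M S] :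
    CAlg.IsN2 S := by
  intro L _ _ _ _ hfin
  have hinj : Function.Injective (algebraMap R (FractionRing S)) := by
    rw [IsScalarTower.algebraMap_eq R S (FractionRing S)]
    exact (IsFractionRing.injective S (FractionRing S)).comp (IsLocalization.injective S hM)
  haveI : FaithfulSMul R (FractionRing S) := (faithfulSMul_iff_algebraMap_injective R (FractionRing S)).2 hinj
  haveI hfr : IsFractionRing R (FractionRing S) := IsFractionRing.of_field _ _ fun z => by
    obtain ⟨a, b, -, rfl⟩ := IsFractionRing.div_surjective (A := S) z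
    obtain ⟨⟨a', s⟩, ha⟩ := IsLocalization.surj M a
    obtain ⟨⟨b', t⟩, hb⟩ := IsLocalization.surj M b
    refine ⟨a' * t, b' * s, ?_⟩
    have hs : algebraMap S (FractionRing S) (algebraMap R S s) ≠ 0 :=
      ((IsLocalization.map_units S s).map _).ne_zero
    have ht : algebraMap S (FractionRing S) (algebraMap R S t) ≠ 0 :=
      ((IsLocalization.map_units S t).map _).ne_zero
    rw [IsScalarTower.algebraMap_apply R S (FractionRing S) (a' * t),
      IsScalarTower.algebraMap_apply R S (FractionRing S) (b' * s), map_mul (algebraMap R S),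
      map_mul (algebraMap R S), ← ha, ← hb, map_mul, map_mul, map_mul, map_mul,
      mul_right_comm (algebraMap S (FractionRing S) a), mul_div_mul_right _ _ hs, mul_div_mul_right _ _ ht]
  let e : FractionRing R ≃ₐ[R] (FractionRing S) := IsLocalization.algEquiv (nonZeroDivisors R) _ _
  letI : Algebra R L := ((algebraMap S L).comp (algebraMap R S)).toAlgebra
  haveI : IsScalarTower R S L := IsScalarTower.of_algebraMap_eq fun _ => rfl
  letI aKL : Algebra (FractionRing R) L := ((algebraMap (FractionRing S) L).comp e.toRingEquiv.toRingHom).toAlgebra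
  haveI : IsScalarTower R (FractionRing R) L := IsScalarTower.of_algebraMap_eq fun r => by
    show algebraMap S L (algebraMap R S r) = algebraMap (FractionRing S) L (e (algebraMap R (FractionRing R) r))
    rw [e.commutes, IsScalarTower.algebraMap_apply R S (FractionRing S), ← IsScalarTower.algebraMap_apply S (FractionRing S) L]
  haveI : FiniteDimensional (FractionRing R) L := by
    refine RingHom.finite_algebraMap.1 ?_
    exact RingHom.Finite.comp (RingHom.finite_algebraMap.2 hfin)
      (RingHom.Finite.of_surjective e.toRingEquiv.toRingHom e.surjective)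
  haveI hRL : Module.Finite R (integralClosure R L) := h L ‹_›
  let i : integralClosure R L →ₗ[R] integralClosure S L :=
    { toFun := fun z => ⟨z.1, z.2.tower_top⟩
      map_add' := fun _ _ => rfl
      map_smul' := fun _ _ => rfl }
  obtain ⟨s, hs⟩ := hRL.fg_top
  classical
  refine ⟨⟨s.image i, top_le_iff.1 fun z _ => ?_⟩⟩
  obtain ⟨⟨c, hc⟩, hm⟩ := IsIntegral.exists_multiple_integral_of_isLocalization M (z : L) z.2
  let w : integralClosure R L := ⟨_, hm⟩
  have h1 : i w ∈ Submodule.span S ((s.image i : Finset _) : Set (integralClosure S L)) := by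
    refine Submodule.span_le_restrictScalars R S _ ?_
    rw [Finset.coe_image, Submodule.span_image, hs]
    exact ⟨w, Submodule.mem_top, rfl⟩
  have h2 : algebraMap R S c • z ∈ Submodule.span S ((s.image i : Finset _) : Set (integralClosure S L)) := by
    convert h1 using 1
    refine Subtype.ext ?_
    show algebraMap R S c • (z : L) = (⟨c, hc⟩ : M) • (z : L)
    rw [algebraMap_smul]
    rfl
  exact (Submodule.smul_mem_iff_of_isUnit _ (IsLocalization.map_units S (⟨c, hc⟩ : M))).1 h2

theorem isNagata_of_isLocalization {R : Type u} [CommRing R] (h : CAlg.IsNagata R) (M : Submonoid R)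
    (S : Type u) [CommRing S] [Algebra R S] [IsLocalization M S] : CAlg.IsNagata S := by
  haveI := h.1
  refine ⟨IsLocalization.isNoetherianRing M S inferInstance, fun p hp => ?_⟩
  let q := p.comap (algebraMap R S)
  letI : Algebra (R ⧸ q) (S ⧸ p) := (Ideal.quotientMap p (algebraMap R S) le_rfl).toAlgebra
  have hdisj : Disjoint (M : Set R) (q : Set R) :=
    ((IsLocalization.isPrime_iff_isPrime_disjoint M S p).1 hp).2
  let M' := M.map (Ideal.Quotient.mk q : R →* R ⧸ q)
  haveI : IsLocalization M' (S ⧸ p) :=
    { map_units := by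
        rintro ⟨_, m, hm, rfl⟩
        show IsUnit (Ideal.Quotient.mk p (algebraMap R S m))
        exact (IsLocalization.map_units S (⟨m, hm⟩ : M)).map _
      surj := fun z => by
        obtain ⟨z, rfl⟩ := Ideal.Quotient.mk_surjective z
        obtain ⟨⟨r, m⟩, hrm⟩ := IsLocalization.surj M z
        refine ⟨⟨Ideal.Quotient.mk q r, ⟨Ideal.Quotient.mk q m.1, m.1, m.2, rfl⟩⟩, ?_⟩
        show Ideal.Quotient.mk p z * Ideal.Quotient.mk p (algebraMap R S m) = Ideal.Quotient.mk p (algebraMap R S r)
        rw [← map_mul, hrm]
      exists_of_eq := fun {x y} h => by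
        refine ⟨1, ?_⟩
        have : x = y := Ideal.quotientMap_injective h
        rw [this] }
  refine isN2_of_isLocalization (h.2 q) M' ?_ (S ⧸ p)
  rintro _ ⟨m, hm, rfl⟩
  exact mem_nonZeroDivisors_of_ne_zero fun h0 =>
    Set.disjoint_left.1 hdisj hm (Ideal.Quotient.eq_zero_iff_mem.1 h0)

end Groth.Agent.NagataLib
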