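import Groth.Agent.NagataLib.Field
import Groth.Agent.NagataLib.Localization
import Mathlib.AlgebraicGeometry.Morphisms.FiniteType
import Mathlib.AlgebraicGeometry.AffineScheme

/-!
# Schemes locally of finite type over a field have Nagata sections and local rings
-/

open CategoryTheory AlgebraicGeometry

namespace Groth.Agent.NagataLib

universe u

set_option linter.style.haveILetI false

theorem isNagata_affineOpen {k : Type u} [Field k] {X : Scheme.{u}} (f : X ⟶ Spec (CommRingCat.of k))
    [LocallyOfFiniteType f] (U : X.affineOpens) : CAlg.IsNagata Γ(X, (U : X.Opens)) := by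
  have h : (f.appLE ⊤ U (by simp)).hom.FiniteType :=
    HasRingHomProperty.appLE @LocallyOfFiniteType f inferInstance ⟨⊤, isAffineOpen_top _⟩ U (by simp)
  let φ : k →+* Γ(X, (U : X.Opens)) := (f.appLE ⊤ U (by simp)).hom.comp
    (Scheme.ΓSpecIso (CommRingCat.of k)).inv.hom
  letI := φ.toAlgebra
  haveI : Algebra.FiniteType k Γ(X, (U : X.Opens)) := RingHom.finiteType_algebraMap.1
    (h.comp (RingHom.FiniteType.of_surjective _
      (Scheme.ΓSpecIso (CommRingCat.of k)).commRingCatIsoToRingEquiv.symm.surjective))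
  exact isNagata_of_finiteType k _

theorem isNagata_stalk {k : Type u} [Field k] {X : Scheme.{u}} (f : X ⟶ Spec (CommRingCat.of k))
    [LocallyOfFiniteType f] (x : X) : CAlg.IsNagata (X.presheaf.stalk x) := by
  obtain ⟨_, ⟨U, hU, rfl⟩, hxU, -⟩ := X.isBasis_affineOpens.exists_subset_of_mem_open (Set.mem_univ x) isOpen_univ
  letI := X.presheaf.algebra_section_stalk ⟨x, hxU⟩
  haveI := hU.isLocalization_stalk ⟨x, hxU⟩
  exact isNagata_of_isLocalization (isNagata_affineOpen f ⟨U, hU⟩) (hU.primeIdealOf ⟨x, hxU⟩).asIdeal.primeCompl _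

end Groth.Agent.NagataLib
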